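import Mathlib.RingTheory.Ideal.AssociatedPrime.Finiteness
import Mathlib.RingTheory.LocalRing.ResidueField.Ideal
import Mathlib.RingTheory.Flat.Basic

/-!
# Noetherian induction for classes of modules which contain all residue fields
-/

set_option autoImplicit false
set_option linter.style.haveILetI false

universe u

namespace Groth.Agent.ResProp.EF.K10

variable (A : Type u) [CommRing A]

/-- a class of modules closed under isomorphisms, extensions, kernels of surjections, directed unions -/
structure Stab (P : (N : Type u) → [AddCommGroup N] → [Module A N] → Prop) : Prop where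
  ext : ∀ (N₁ N₂ N₃ : Type u) [AddCommGroup N₁] [AddCommGroup N₂] [AddCommGroup N₃] [Module A N₁] [Module A N₂]
    [Module A N₃] (f : N₁ →ₗ[A] N₂) (g : N₂ →ₗ[A] N₃), Function.Injective f → Function.Surjective g →
    Function.Exact f g → P N₁ → P N₃ → P N₂
  ker : ∀ (N₁ N₂ N₃ : Type u) [AddCommGroup N₁] [AddCommGroup N₂] [AddCommGroup N₃] [Module A N₁] [Module A N₂]
    [Module A N₃] (f : N₁ →ₗ[A] N₂) (g : N₂ →ₗ[A] N₃), Function.Injective f → Function.Surjective g →
    Function.Exact f g → P N₂ → P N₃ → P N₁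
  union : ∀ (N : Type u) [AddCommGroup N] [Module A N] (ι : Type u) [Nonempty ι] (F : ι → Submodule A N),
    Directed (· ≤ ·) F → (⨆ i, F i) = ⊤ → (∀ i, P (F i)) → P N
  zero : P PUnit.{u + 1}

variable {A} {P : (N : Type u) → [AddCommGroup N] → [Module A N] → Prop}

namespace Stab

/-- invariance under isomorphisms -/
theorem iso (h : Stab A P) {M N : Type u} [AddCommGroup M] [AddCommGroup N] [Module A M] [Module A N]
    (e : M ≃ₗ[A] N) (hM : P M) : P N :=
  h.ext M N PUnit.{u + 1} e.toLinearMap 0 e.injective (Function.surjective_to_subsingleton _)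
    ((LinearMap.exact_zero_iff_surjective _ _).2 e.surjective) hM h.zero

/-- the prime case -/
theorem prime (h : Stab A P) (q : Ideal A) [hq : q.IsPrime] (hκ : P q.ResidueField)
    (hs : ∀ s : A, s ∉ q → P (A ⧸ (q ⊔ Ideal.span {s}))) : P (A ⧸ q) := by
  let K := q.ResidueField
  let j : A →ₗ[A] K := Algebra.linearMap A K
  have hj : ∀ a : A, j a = algebraMap A K a := fun a => rfl
  have hker : ∀ a : A, j a = 0 ↔ a ∈ q := fun a => by
    rw [hj]; exact Ideal.algebraMap_residueField_eq_zero
  let L : Submodule A K := LinearMap.range j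
  -- the submodules (1/s) L / L
  let N : A → Submodule A K := fun s => L.comap (LinearMap.lsmul A K s)
  have hN : ∀ (s : A) (x : K), x ∈ N s ↔ s • x ∈ L := fun s x => Iff.rfl
  have hLN : ∀ s, L ≤ N s := fun s x hx => (hN s x).2 (L.smul_mem s hx)
  let ι := {s : A // s ∉ q}
  haveI : Nonempty ι := ⟨⟨1, fun h1 => hq.ne_top ((Ideal.eq_top_iff_one q).2 h1)⟩⟩
  let F : ι → Submodule A (K ⧸ L) := fun s => (N s.1).map L.mkQ
  have hmul : ∀ s t : ι, s.1 * t.1 ∉ q := fun s t hst => (hq.mem_or_mem hst).elim s.2 t.2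
  have hdir : Directed (· ≤ ·) F := by
    intro s t
    refine ⟨⟨s.1 * t.1, hmul s t⟩, Submodule.map_mono fun x hx => ?_, Submodule.map_mono fun x hx => ?_⟩
    · have h1 : (s.1 * t.1) • x ∈ L := by
        rw [mul_comm, mul_smul]
        exact L.smul_mem _ ((hN _ _).1 hx)
      exact h1
    · have h1 : (s.1 * t.1) • x ∈ L := by
        rw [mul_smul]
        exact L.smul_mem _ ((hN _ _).1 hx)
      exact h1
  have hfrac : ∀ x : K, ∃ s : ι, x ∈ N s.1 := by
    intro x
    obtain ⟨a, s, hs', rfl⟩ := IsFractionRing.div_surjective (A := A ⧸ q) x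
    obtain ⟨a, rfl⟩ := Ideal.Quotient.mk_surjective a
    obtain ⟨s, rfl⟩ := Ideal.Quotient.mk_surjective s
    have hsq : s ∉ q := fun h1 => (nonZeroDivisors.ne_zero hs') (Ideal.Quotient.eq_zero_iff_mem.2 h1)
    refine ⟨⟨s, hsq⟩, ?_⟩
    rw [hN]
    refine ⟨a, ?_⟩
    rw [hj]
    have e1 : ∀ b : A, algebraMap (A ⧸ q) K (Ideal.Quotient.mk q b) = algebraMap A K b := fun b => rfl
    rw [e1, e1, Algebra.smul_def, mul_div_cancel₀]
    intro h2
    exact hsq ((hker s).1 h2)
  have hsup : (⨆ i, F i) = ⊤ := by
    rw [eq_top_iff]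
    rintro y -
    obtain ⟨x, rfl⟩ := L.mkQ_surjective y
    obtain ⟨s, hs'⟩ := hfrac x
    exact (le_iSup F s) (Submodule.mem_map_of_mem hs')
  have hF : ∀ s : ι, P (F s) := by
    intro s
    -- x ↦ x / s
    let g : A →ₗ[A] K ⧸ L := L.mkQ.comp (LinearMap.toSpanSingleton A K ((algebraMap A K s.1)⁻¹))
    have hsne : algebraMap A K s.1 ≠ 0 := fun h2 => s.2 ((hker s.1).1 h2)
    have hg : ∀ a : A, g a = L.mkQ (a • (algebraMap A K s.1)⁻¹) := fun a => rfl
    have hrange : LinearMap.range g = F s := by
      ext y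
      constructor
      · rintro ⟨a, rfl⟩
        rw [hg]
        refine Submodule.mem_map_of_mem ((hN _ _).2 ⟨a, ?_⟩)
        rw [hj, Algebra.smul_def, Algebra.smul_def, ← mul_assoc, mul_comm (algebraMap A K s.1), mul_assoc,
          mul_inv_cancel₀ hsne, mul_one]
      · rintro ⟨x, hx, rfl⟩
        obtain ⟨a, ha⟩ := (hN _ _).1 hx
        refine ⟨a, ?_⟩
        rw [hg]
        congr 1
        rw [hj, Algebra.smul_def] at ha
        rw [Algebra.smul_def, ha, mul_comm (algebraMap A K s.1), mul_assoc, mul_inv_cancel₀ hsne, mul_one]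
    have hkerg : LinearMap.ker g = q ⊔ Ideal.span {s.1} := by
      ext a
      rw [LinearMap.mem_ker, hg, Submodule.mkQ_apply, Submodule.Quotient.mk_eq_zero]
      constructor
      · rintro ⟨b, hb⟩
        have h3 : a - b * s.1 ∈ q := by
          rw [← hker, hj, map_sub, map_mul, sub_eq_zero]
          rw [hj, Algebra.smul_def] at hb
          rw [hb, mul_assoc, inv_mul_cancel₀ hsne, mul_one]
        have h4 : a = (a - b * s.1) + b * s.1 := by ring
        rw [h4]
        exact Ideal.add_mem _ (Ideal.mem_sup_left h3)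
          (Ideal.mem_sup_right (Ideal.mul_mem_left _ _ (Ideal.mem_span_singleton_self _)))
      · intro ha
        obtain ⟨b, hb, c, hc, rfl⟩ := Submodule.mem_sup.1 ha
        obtain ⟨d, rfl⟩ := Ideal.mem_span_singleton'.1 hc
        refine ⟨d, ?_⟩
        have h5 : algebraMap A K b = 0 := (hker b).2 hb
        rw [hj, Algebra.smul_def, map_add, map_mul, h5, zero_add, mul_assoc, mul_inv_cancel₀ hsne, mul_one]
    have e : (A ⧸ (q ⊔ Ideal.span {s.1})) ≃ₗ[A] F s :=
      (Submodule.quotEquivOfEq _ _ hkerg.symm).trans ((LinearMap.quotKerEquivRange g).trans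
        (LinearEquiv.ofEq _ _ hrange))
    exact h.iso e (hs s.1 s.2)
  have hQ : P (K ⧸ L) := h.union _ ι F hdir hsup hF
  have hL : P L := h.ker L K (K ⧸ L) L.subtype L.mkQ L.injective_subtype L.mkQ_surjective
    (by rw [LinearMap.exact_iff, Submodule.ker_mkQ, Submodule.range_subtype]) hκ hQ
  have hkerj : LinearMap.ker j = q := by
    ext a
    rw [LinearMap.mem_ker, hker]
  exact h.iso (((Submodule.quotEquivOfEq _ _ hkerj.symm).trans (LinearMap.quotKerEquivRange j)).symm) hL

/-- **Noetherian induction**: a stable class with all residue fields contains all finitely generated modules -/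
theorem finite [IsNoetherianRing A] (h : Stab A P) (hκ : ∀ (q : Ideal A) [q.IsPrime], P q.ResidueField)
    (M : Type u) [AddCommGroup M] [Module A M] [Module.Finite A M] : P M := by
  have key : ∀ I : Ideal A, ∀ (M : Type u) [AddCommGroup M] [Module A M] [Module.Finite A M],
      I ≤ Module.annihilator A M → P M := by
    intro I
    induction I using WellFoundedGT.induction with
    | _ I ih =>
    intro M _ _ hM hI
    refine IsNoetherianRing.induction_on_isQuotientEquivQuotientPrime A (M := M) hM
      (motive := fun N _ _ _ => I ≤ Module.annihilator A N → P N) ?_ ?_ ?_ hI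
    · intro N _ _ _ _ _
      exact h.iso (M := PUnit.{u + 1}) (N := N)
        { (0 : PUnit.{u + 1} →ₗ[A] N) with
          invFun := fun _ => PUnit.unit
          left_inv := fun _ => rfl
          right_inv := fun _ => Subsingleton.elim _ _ } h.zero
    · intro N _ _ _ p e hN
      have hp : I ≤ p.1 := by
        have h1 := e.annihilator_eq
        rw [h1, Ideal.annihilator_quotient] at hN
        exact hN
      haveI := p.2
      rcases hp.lt_or_eq with h2 | h2
      · exact ih p.1 h2 N (by rw [e.annihilator_eq, Ideal.annihilator_quotient])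
      · refine h.iso e.symm (h.prime p.1 (hκ p.1) fun s hs => ?_)
        refine ih (p.1 ⊔ Ideal.span {s}) ?_ _ (by rw [Ideal.annihilator_quotient])
        rw [h2]
        refine lt_of_le_of_ne le_sup_left fun h3 => hs ?_
        rw [h3]
        exact Ideal.mem_sup_right (Ideal.mem_span_singleton_self s)
    · intro N₁ _ _ _ N₂ _ _ _ N₃ _ _ _ f g hf hg hfg h1 h3 hN
      exact h.ext N₁ N₂ N₃ f g hf hg hfg (h1 (hN.trans (LinearMap.annihilator_le_of_injective f hf)))
        (h3 (hN.trans (LinearMap.annihilator_le_of_surjective g hg)))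
  exact key ⊥ M bot_le

/-- the ring itself -/
theorem self [IsNoetherianRing A] (h : Stab A P) (hκ : ∀ (q : Ideal A) [q.IsPrime], P q.ResidueField) : P A :=
  h.finite hκ A

end Stab

end Groth.Agent.ResProp.EF.K10
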