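import Groth.Agent.ResProp.EF.K294.Tor
import Mathlib.Algebra.Homology.DerivedCategory.Fractions
import Mathlib.CategoryTheory.Triangulated.Subcategory

/-!
# Complexes with a lower Tor bound form a triangulated subcategory (F4 (d))

`TTor X : ObjectProperty (DerivedCategory C)`: isomorphic to `Q K` with `TorGE a (v^* K)` for some `a`.
-/

set_option autoImplicit false

universe w' w v u

open CategoryTheory CategoryTheory.Limits HomologicalComplex Pretriangulated

namespace Groth.Agent.ResProp.EF.K10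

open Groth.Agent.ResProp.EF.K294

variable {A : Type u} [CommRing A] {C : Type v} [Category.{w} C] [Abelian C] (X : Chart A C)

instance chart_preservesFiniteColimits : PreservesFiniteColimits X.us :=
  haveI := X.adj.leftAdjoint_preservesColimits
  inferInstance

/-- `v^*` preserves quasi-isomorphisms, so `TorGE a (v^* -)` is invariant -/
theorem torGE_us_iff_of_quasiIso {a : ℤ} {K K' : CochainComplex C ℤ} (f : K ⟶ K') [QuasiIso f] :
    TorGE a (X.usC.obj K) ↔ TorGE a (X.usC.obj K') :=
  torGE_iff_of_quasiIso (X.usC.map f)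

theorem torGE_us_shift_iff {a : ℤ} (K : CochainComplex C ℤ) (n : ℤ) :
    TorGE a (X.usC.obj (K⟦n⟧)) ↔ TorGE (a + n) (X.usC.obj K) := by
  rw [← torGE_shift_iff]
  exact ⟨fun h => h.of_iso ((X.usC.commShiftIso n).app K), fun h => h.of_iso ((X.usC.commShiftIso n).app K).symm⟩

/-- the mapping cone of a map of complexes with lower Tor bounds -/
theorem torGE_us_cone {a : ℤ} {K K' : CochainComplex C ℤ} (f : K ⟶ K') (h : TorGE (a + 1) (X.usC.obj K))
    (h' : TorGE a (X.usC.obj K')) : TorGE a (X.usC.obj (CochainComplex.mappingCone f)) := by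
  have hS := (shortExact_cone f).map_of_exact X.usC
  exact TorGE.ses₂ hS h' ((torGE_us_shift_iff X K 1).2 h)

section Derived

variable [HasDerivedCategory.{w'} C]

/-- invariance under isomorphisms of the derived category -/
theorem torGE_us_of_iso {a : ℤ} {K K' : CochainComplex C ℤ} (e : DerivedCategory.Q.obj K ≅ DerivedCategory.Q.obj K')
    (h : TorGE a (X.usC.obj K)) : TorGE a (X.usC.obj K') := by
  obtain ⟨K'', s, hs, g, hg⟩ := DerivedCategory.right_fac e.hom
  have h1 : IsIso (DerivedCategory.Q.map g) := by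
    have h2 : DerivedCategory.Q.map g = DerivedCategory.Q.map s ≫ e.hom := by rw [hg, IsIso.hom_inv_id_assoc]
    rw [h2]
    infer_instance
  rw [DerivedCategory.isIso_Q_map_iff_quasiIso] at hs h1
  exact (torGE_us_iff_of_quasiIso X g).1 ((torGE_us_iff_of_quasiIso X s).2 h)

/-- objects of the derived category of `C` with some lower Tor bound on the chart -/
def TTor : ObjectProperty (DerivedCategory C) := fun D =>
  ∃ (K : CochainComplex C ℤ) (a : ℤ), TorGE a (X.usC.obj K) ∧ Nonempty (DerivedCategory.Q.obj K ≅ D)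

/-- the property on complexes -/
theorem tTor_Q_iff (K : CochainComplex C ℤ) : TTor X (DerivedCategory.Q.obj K) ↔ ∃ a, TorGE a (X.usC.obj K) := by
  constructor
  · rintro ⟨K', a, h, ⟨e⟩⟩
    exact ⟨a, torGE_us_of_iso X e h⟩
  · rintro ⟨a, h⟩
    exact ⟨K, a, h, ⟨Iso.refl _⟩⟩

instance : (TTor X).IsClosedUnderIsomorphisms where
  of_iso := by
    rintro D D' e ⟨K, a, h, ⟨e'⟩⟩
    exact ⟨K, a, h, ⟨e' ≪≫ e⟩⟩

instance : (TTor X).ContainsZero where
  exists_zero := by
    obtain ⟨Z, hZ⟩ := HasZeroObject.zero (C := CochainComplex C ℤ)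
    refine ⟨DerivedCategory.Q.obj Z, DerivedCategory.Q.map_isZero hZ, ?_⟩
    rw [tTor_Q_iff]
    refine ⟨0, TorGE.of_acyclic fun i => ?_⟩
    rw [exactAt_iff_isZero_homology]
    exact (homologyFunctor _ _ i).map_isZero (X.usC.map_isZero hZ)

instance : (TTor X).IsStableUnderShift ℤ where
  isStableUnderShiftBy n :=
    { le_shift := by
        rintro D ⟨K, a, h, ⟨e⟩⟩
        refine ⟨K⟦n⟧, a - n, (torGE_us_shift_iff X K n).2 (by simpa using h), ⟨?_⟩⟩
        exact (DerivedCategory.Q.commShiftIso n).app K ≪≫ (shiftFunctor _ n).mapIso e }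

instance : (TTor X).IsTriangulatedClosed₃ := .mk' (by
  intro T hT h₁ h₂
  obtain ⟨K, K', f, ⟨e⟩⟩ := (DerivedCategory.mem_distTriang_iff T).1 hT
  have h1 : TTor X (DerivedCategory.Q.obj K) := (TTor X).prop_of_iso (Triangle.π₁.mapIso e) h₁
  have h2 : TTor X (DerivedCategory.Q.obj K') := (TTor X).prop_of_iso (Triangle.π₂.mapIso e) h₂
  have h3 : TTor X (DerivedCategory.Q.obj (CochainComplex.mappingCone f)) := by
    rw [tTor_Q_iff] at h1 h2 ⊢
    obtain ⟨a, h1⟩ := h1
    obtain ⟨b, h2⟩ := h2
    exact ⟨min (a - 1) b, torGE_us_cone X f (h1.mono (by omega)) (h2.mono (by omega))⟩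
  exact (TTor X).prop_of_iso (Triangle.π₃.mapIso e).symm h3)

instance : (TTor X).IsTriangulatedClosed₂ := .of_isTriangulatedClosed₃

/-- **TTor is a triangulated subcategory** -/
instance : (TTor X).IsTriangulated where

end Derived

end Groth.Agent.ResProp.EF.K10
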